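import Cfsg.Agent.H917.Conj.Basic
import Cfsg.Agent.H937.Conj.CC
import Cfsg.Agent.H514.DP.Core
import Cfsg.Agent.S2343
import Cfsg.Agent.S1159
import Cfsg.Agent.S1158
import Cfsg.Agent.LieRecognition.ReeTorusTw

/-!
# The conjugation character (S4792): the small Ree groups (helper24, task 3787)

`row_ree` : tool M with the cyclic CC-subgroup of order `q - r + 1`, `r = 3 ^ (m + 1)`, `q = 3 ^ (2 m + 1)`.
-/

set_option autoImplicit false

namespace Cfsg.Agent.H24.Conj

open Cfsg Subgroup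
open Cfsg.Agent.H430.Conj

/-- A nontrivial irreducible character of a nonabelian simple group has degree at least the minimal degree. -/
theorem le_of_minDeg {G : Type*} [Group G] [IsSimpleGroup G] (hna : ¬ ∀ a b : G, a * b = b * a) {D : ℕ}
    (hD : H514.DP.MinDeg G D) {χ : G → ℂ} {d : ℕ} (hχ : IsIrrCharacter G χ) (h1 : χ ≠ 1) (hd : χ 1 = d) : D ≤ d := by
  obtain ⟨n, ρ, hρ, rfl⟩ := hχ
  have hn : ρ.character 1 = n := by
    rw [Representation.char_one, Module.finrank_fin_fun]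
  have hnd : n = d := by
    rw [hn] at hd
    exact_mod_cast hd
  subst hnd
  refine hD n ρ hρ ?_
  by_contra hlt
  push Not at hlt
  -- degree at most one: the image is commutative
  have hcomm : ∀ f g : Module.End ℂ (Fin n → ℂ), f * g = g * f := by
    intro f g
    interval_cases n
    · exact Subsingleton.elim _ _
    · have h : ∀ f : Module.End ℂ (Fin 1 → ℂ), ∃ c : ℂ, f = c • 1 := by
        intro f
        refine ⟨f 1 0, ?_⟩
        apply LinearMap.ext
        intro v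
        have hv : v = v 0 • (1 : Fin 1 → ℂ) := by
          funext i
          rw [Subsingleton.elim i 0]
          simp
        rw [hv, map_smul]
        funext i
        rw [Subsingleton.elim i 0]
        simp [mul_comm]
      obtain ⟨a, rfl⟩ := h f
      obtain ⟨b, rfl⟩ := h g
      rw [smul_mul_smul_comm, smul_mul_smul_comm, mul_comm]
  rcases (MonoidHom.normal_ker ρ).eq_bot_or_eq_top with h | h
  · apply hna
    intro a b
    apply (MonoidHom.ker_eq_bot_iff ρ).1 h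
    rw [map_mul, map_mul, hcomm]
  · apply h1
    have htr : ∀ g, ρ g = 1 := fun g => by
      have : g ∈ MonoidHom.ker ρ := by rw [h]; trivial
      exact this
    have hn0 : n = 1 := by
      rcases Nat.eq_zero_or_pos n with h0 | h0
      · exfalso
        subst h0
        obtain ⟨a, b, hab⟩ := hρ.toNontrivial
        apply hab
        apply Subrepresentation.toSubmodule_injective
        exact Subsingleton.elim _ _
      · omega
    subst hn0
    funext g
    rw [Representation.character, htr g, LinearMap.trace_one, Module.finrank_fin_fun]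
    simp

section arith

variable {m : ℕ}

theorem nums (hm : 1 ≤ m) : ∃ r q : ℕ, r = 3 ^ (m + 1) ∧ q = 3 ^ (2 * m + 1) ∧ 9 ≤ r ∧ r ^ 2 = 3 * q ∧ (q % 2 = 1 ∧
    r % 2 = 1) ∧ 3 * r ≤ q := by
  refine ⟨3 ^ (m + 1), 3 ^ (2 * m + 1), rfl, rfl, ?_, ?_, ⟨?_, ?_⟩, ?_⟩
  · calc 9 = 3 ^ 2 := by norm_num
      _ ≤ 3 ^ (m + 1) := Nat.pow_le_pow_right (by norm_num) (by omega)
  · ring
  · rw [Nat.pow_mod]; simp
  · rw [Nat.pow_mod]; simp
  · calc 3 * 3 ^ (m + 1) = 3 ^ (m + 2) := by ring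
      _ ≤ 3 ^ (2 * m + 1) := Nat.pow_le_pow_right (by norm_num) (by omega)

/-- `q - r + 1` divides `q ^ 2 - q + 1` -/
theorem dvd_cyclo (hm : 1 ≤ m) :
    3 ^ (2 * m + 1) - 3 ^ (m + 1) + 1 ∣ (3 ^ (2 * m + 1)) ^ 2 - 3 ^ (2 * m + 1) + 1 := by
  obtain ⟨r, q, hr, hq, h9, hrq, -, h3⟩ := nums hm
  rw [← hr, ← hq]
  refine ⟨q + r + 1, ?_⟩
  have h1 : q ≤ q ^ 2 := by nlinarith
  zify [h1, (show r ≤ q by omega)]
  have h2 : (r : ℤ) ^ 2 = 3 * q := by exact_mod_cast hrq
  linear_combination h2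

theorem order_eq (hm : 1 ≤ m) {n : ℕ} (h : 3 ^ (2 * m + 1) - 3 ^ (m + 1) + 1 ∣ n)
    (hn : n ∣ 6 ∨ n ∣ 9 ∨ n ∣ 3 ^ (2 * m + 1) - 1 ∨ n ∣ (3 ^ (2 * m + 1) + 1) / 2 ∨
        n ∣ 3 ^ (2 * m + 1) - 3 ^ (m + 1) + 1 ∨ n ∣ 3 ^ (2 * m + 1) + 3 ^ (m + 1) + 1) :
    n = 3 ^ (2 * m + 1) - 3 ^ (m + 1) + 1 := by
  obtain ⟨r, q, hr, hq, h9, hrq, h2, h3⟩ := nums hm
  rw [← hr, ← hq] at h hn ⊢
  obtain ⟨t, ht⟩ : ∃ t, t = q - r + 1 := ⟨_, rfl⟩
  have ht' : t + r = q + 1 := by omega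
  rw [← ht] at h hn ⊢
  rcases hn with hn | hn | hn | hn | hn | hn
  · have := Nat.le_of_dvd (by norm_num) (h.trans hn)
    omega
  · have := Nat.le_of_dvd (by norm_num) (h.trans hn)
    omega
  · obtain ⟨k, hk⟩ := h.trans hn
    have h1 : k < 2 := by
      by_contra hc
      push Not at hc
      have := Nat.mul_le_mul_left t hc
      omega
    interval_cases k <;> omega
  · have := Nat.le_of_dvd (by omega) (h.trans hn)
    omega
  · exact Nat.dvd_antisymm hn h
  · obtain ⟨k, hk⟩ := h.trans hn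
    have h1 : k < 3 := by
      by_contra hc
      push Not at hc
      have := Nat.mul_le_mul_left t hc
      omega
    interval_cases k <;> omega

end arith

section model

variable {K : Type*} [Field K] [Fintype K] {m : ℕ}

/-- **The Ree groups**: the model. -/
theorem row_model (hm : 1 ≤ m) (hK : Fintype.card K = 3 ^ (2 * m + 1)) :
    Row ↥(Cfsg.Lie.twistedG2 K (3 ^ m)) := by
  have hfin : Finite ↥(Cfsg.Lie.twistedG2 K (3 ^ m)) := by
    apply Nat.finite_of_card_ne_zero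
    rw [Cfsg.Agent.LieRecognition.ReeFinal.card hK]
    have h1 : 0 < 3 ^ (2 * m + 1) := by positivity
    have h2 : 0 < 3 ^ (2 * m + 1) - 1 := by
      have : 3 ^ 1 ≤ 3 ^ (2 * m + 1) := Nat.pow_le_pow_right (by norm_num) (by omega)
      omega
    positivity
  have hs : IsSimpleGroup ↥(Cfsg.Lie.twistedG2 K (3 ^ m)) := (Cfsg.Agent.S1073.result hm hK).1
  obtain ⟨r, q, hr, hq, h9, hrq, h2, h3⟩ := nums hm
  obtain ⟨x, hx⟩ := (Cfsg.Agent.S1159.result hm hK (3 ^ (2 * m + 1) - 3 ^ (m + 1) + 1)).2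
    (Or.inr (Or.inr (Or.inr (Or.inr (Or.inl dvd_rfl)))))
  have hx1 : x ≠ 1 := by
    rintro rfl
    rw [orderOf_one, ← hr, ← hq] at hx
    omega
  have hcyc : ∀ y : ↥(Cfsg.Lie.twistedG2 K (3 ^ m)), y ≠ 1 →
      orderOf y ∣ 3 ^ (2 * m + 1) - 3 ^ (m + 1) + 1 → IsCyclic (centralizer {y}) := fun y hy hd =>
    (Cfsg.Agent.LieRecognition.ReeTorusTw.isCyclic_centralizer hK hy (hd.trans (dvd_cyclo hm))).1
  have hcom : ∀ y : ↥(Cfsg.Lie.twistedG2 K (3 ^ m)), IsCyclic (centralizer {y}) →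
      ∀ a ∈ centralizer {y}, ∀ b ∈ centralizer {y}, a * b = b * a := by
    intro y hy a ha b hb
    have := hy.isMulCommutative.is_comm.comm ⟨a, ha⟩ ⟨b, hb⟩
    exact congrArg Subtype.val this
  set C : Subgroup ↥(Cfsg.Lie.twistedG2 K (3 ^ m)) := centralizer {x} with hC
  have hCc := hcyc x hx1 (hx ▸ dvd_rfl)
  have hxC : x ∈ C := mem_centralizer_singleton_iff.2 rfl
  -- the order of `C`
  have hcard : Nat.card C = 3 ^ (2 * m + 1) - 3 ^ (m + 1) + 1 := by
    obtain ⟨⟨y, hy⟩, hy'⟩ := hCc.exists_ofOrder_eq_natCard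
    rw [← hy']
    apply order_eq hm
    · rw [hy', ← hx, ← Subgroup.orderOf_mk x hxC]
      exact orderOf_dvd_natCard _
    · exact (Cfsg.Agent.S1159.result hm hK _).1 ⟨y, (Subgroup.orderOf_mk y hy).symm⟩
  refine row_of_cc (C := C) ?_ ?_ ?_
  · intro h
    apply hx1
    rw [h] at hxC
    exact hxC
  · intro c hc hc1
    have hd : orderOf c ∣ 3 ^ (2 * m + 1) - 3 ^ (m + 1) + 1 := by
      rw [← hcard, ← Subgroup.orderOf_mk c hc]
      exact orderOf_dvd_natCard _
    apply le_antisymm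
    · intro z hz
      rw [hC, mem_centralizer_singleton_iff]
      refine hcom c (hcyc c hc1 hd) z hz x ?_
      rw [mem_centralizer_singleton_iff]
      rw [hC, mem_centralizer_singleton_iff] at hc
      exact hc.symm
    · intro z hz
      rw [mem_centralizer_singleton_iff]
      exact hcom x hCc z hz c hc
  · intro χ d hχ h1 hd
    have hna : ¬ ∀ a b : ↥(Cfsg.Lie.twistedG2 K (3 ^ m)), a * b = b * a := by
      intro h
      obtain ⟨g, hg⟩ := (Cfsg.Agent.S1159.result hm hK 2).2 (Or.inl (by norm_num))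
      have hgC : g ∈ C := mem_centralizer_singleton_iff.2 (h g x)
      have h4 : 2 ∣ q - r + 1 := by
        rw [hr, hq, ← hcard, ← hg, ← Subgroup.orderOf_mk g hgC]
        exact orderOf_dvd_natCard _
      omega
    have h4 := le_of_minDeg hna (D := (3 ^ (2 * m + 1)) ^ 2 - 3 ^ (2 * m + 1) + 1)
      (fun k ρ hρ hk => Cfsg.Agent.S2343.result m hm hK k ρ hρ hk) hχ h1 hd
    rw [hcard, ← hr, ← hq]
    rw [← hq] at h4
    have h5 : q ≤ q ^ 2 := by nlinarith
    obtain ⟨s, hs⟩ : ∃ s, q = r + s := ⟨q - r, by omega⟩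
    have h6 : q - r + 1 - 1 ≤ q := by omega
    have h7 : q - r + 1 ≤ q := by omega
    calc (q - r + 1) ^ 2 * (q - r + 1 - 1) ≤ q ^ 2 * q := Nat.mul_le_mul (Nat.pow_le_pow_left h7 2) h6
      _ ≤ (q * (q - 1)) ^ 2 := by
        obtain ⟨u, hu⟩ : ∃ u, q = u + 1 := ⟨q - 1, by omega⟩
        rw [hu, Nat.add_sub_cancel, mul_pow]
        exact Nat.mul_le_mul_left _ (by nlinarith)
      _ ≤ d ^ 2 := Nat.pow_le_pow_left (le_trans (by
        zify [h5, (show 1 ≤ q by omega)]
        nlinarith) h4) 2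

end model

/-- **S4792, the small Ree groups** -/
theorem row_ree {S : Type*} [Group S] (h : Cfsg.Lie.IsoRee S) : Row S := by
  obtain ⟨K, _, _, m, hm, hK, ⟨e⟩⟩ := h
  have hfin : Finite ↥(Cfsg.Lie.twistedG2 K (3 ^ m)) := by
    apply Nat.finite_of_card_ne_zero
    rw [Cfsg.Agent.LieRecognition.ReeFinal.card hK]
    have h1 : 0 < 3 ^ (2 * m + 1) := by positivity
    have h2 : 0 < 3 ^ (2 * m + 1) - 1 := by
      have : 3 ^ 1 ≤ 3 ^ (2 * m + 1) := Nat.pow_le_pow_right (by norm_num) (by omega)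
      omega
    positivity
  exact Row.of_equiv e.symm (row_model hm hK)

end Cfsg.Agent.H24.Conj
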